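import Groth.Agent.NumPicLib.Pigeon
import Groth.Agent.NumBddLib.Main
import Groth.Agent.NumBddLib.Ample
import Groth.Agent.NumBddLib.Proper
import Groth.Agent.NakaiLib.GenGrowth
import Groth.Agent.CMRegLib.Bounded
import Groth.Agent.CMRegLib.FamilyHilb
import Groth.Agent.AmpleEmb.Inverse

/-!
# Numerically trivial modules on a projective scheme: boundedness and τ-equivalence to zero
-/

set_option autoImplicit false
set_option backward.isDefEq.respectTransparency false
set_option linter.style.haveILetI false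

universe u

open CategoryTheory CategoryTheory.Limits AlgebraicGeometry
open Groth.Agent.AmpleLib

noncomputable section

namespace Groth.Agent.NumPic

variable (k : Type u) [Field k] {X : Scheme.{u}} [X.Over (Spec (CommRingCat.of k))]
  [IsProper (X ↘ Spec (CommRingCat.of k))]

/-- On a projective scheme the numerically trivial invertible modules form a bounded family. -/
theorem isBounded_numTriv [IsAlgClosed k] {H : X.Modules} (hH : CohB1.IsAmple H) :
    Pic13.IsBounded k X fun L : X.Modules => PicF.IsInvertible L ∧ Pic13.IsNumEquivZero k X L := by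
  haveI := EulerIneqLib.isNoetherian_proper (X := X) k
  obtain ⟨-, n, i, -, hi, hcomp, -⟩ := NumBdd.exists_embedding_pow k hH
  haveI := hi
  have hO := DevLib.isCoh_structureModule X
  obtain ⟨Q, hQ⟩ := CMRegLib.exists_euler_poly_X i hcomp hO
  obtain ⟨⟨j₀, hj₀⟩, hE, -⟩ := NumBdd.allU k i hO
  obtain ⟨T, q, hq, hqc, F, hF, hmem⟩ := CMRegLib.isBounded_regular i hcomp (j₀ + n) Q
  refine ⟨T, q, hq, hqc, F, hF, fun L hL => hmem L ?_⟩
  have hLc : Coh.IsCoh L := CurveLib.isCoh_of_isInvertible hL.1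
  let e : ∀ j : ℤ, NumBdd.T k i (Coh.structureModule X) L j ≅ Pic13.twistOn k i L j := fun j =>
    tIso (unitL L) (Iso.refl _)
  refine ⟨hLc, fun p hp => ?_, fun d => ?_⟩
  · rcases Nat.lt_or_ge n p with hnp | hnp
    · exact NumBdd.vanish_high_X k i hLc _ hnp
    · exact Nakai.subsingleton_HH_iso (e (j₀ + (n : ℤ) - (p : ℤ))) p (hj₀ L hL.1 hL.2 (j₀ + (n : ℤ) - (p : ℤ)) (by omega) p hp)
  · rw [CMRegLib.eulerCharLE_eq i hcomp hLc, ← hQ, ← hE L hL.1 hL.2 d]
    exact congrArg Int.cast (CurveLib.euler_iso (K := k) (e d)).symm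

/-- A numerically trivial invertible module on a projective scheme is τ-equivalent to zero. -/
theorem isTauEquivZero_of_numTriv [IsAlgClosed k] {H : X.Modules} (hH : CohB1.IsAmple H) {L : X.Modules}
    (hL : PicF.IsInvertible L) (hn : Pic13.IsNumEquivZero k X L) : Pic13.IsTauEquivZero k X L := by
  obtain ⟨a, b, hab, T, q, hconn, hq, hqc, M, hM, t, t₀, ht, ht₀, ⟨eb⟩, ⟨ea⟩⟩ :=
    exists_pair k X (isBounded_numTriv k hH) (fun m => CohB1.tensorPow L m)
      (fun m => isInvertible_tensorPow hL m)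
      (fun m => ⟨isInvertible_tensorPow hL m, NumBdd.numTriv_pow k hL hn m⟩)
  obtain ⟨N, hN, ⟨eN⟩⟩ := AmpleEmb.exists_isInverseOf (isInvertible_tensorPow hL a)
  refine ⟨b - a, Nat.sub_pos_of_lt hab, T, q, hconn, hq, hqc,
    CohB1.tensorMod M ((Scheme.Modules.pullback (pullback.fst _ _)).obj N),
    isInvertible_tensor hM (isInvertible_pullback _ hN), t, t₀, ht, ht₀, ⟨?_⟩, ⟨?_⟩⟩
  · exact pullTensor _ _ _ ≪≫ tIso eb
      ((Scheme.Modules.pullbackComp (Pic13.sliceAt k X q t ht) _).app N ≪≫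
        (Scheme.Modules.pullbackCongr (pullback.lift_fst _ _ _)).app N ≪≫ (Scheme.Modules.pullbackId X).app N) ≪≫
      tIso (eqToIso (congrArg (CohB1.tensorPow L) (Nat.sub_add_cancel hab.le).symm) ≪≫ powAdd L (b - a) a)
        (Iso.refl N) ≪≫ assoc _ _ _ ≪≫ tIso (Iso.refl _) eN ≪≫ unitR _
  · exact pullTensor _ _ _ ≪≫ tIso ea
      ((Scheme.Modules.pullbackComp (Pic13.sliceAt k X q t₀ ht₀) _).app N ≪≫
        (Scheme.Modules.pullbackCongr (pullback.lift_fst _ _ _)).app N ≪≫ (Scheme.Modules.pullbackId X).app N) ≪≫ eN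

/-- An ample module has non-negative degree on every curve. -/
theorem curveDeg_nonneg_of_ample {A : X.Modules} (hA : CohB1.IsAmple A) {Y : Scheme.{u}} (i : Y ⟶ X)
    [IsClosedImmersion i] (hd : topologicalKrullDim Y = 1) :
    0 ≤ Pic13.curveDeg k (i ≫ (X ↘ Spec (CommRingCat.of k))) ((Scheme.Modules.pullback i).obj A) := by
  haveI := EulerIneqLib.isNoetherian_proper (X := X) k
  haveI : IsLocallyNoetherian Y := LocallyOfFiniteType.isLocallyNoetherian i
  obtain ⟨M, hM⟩ := AmpleEmb.eventually_isGloballyGenerated hA (DevLib.isCoh_structureModule X)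
  have hn : Nakai.NefP k hA.1 := Nakai.nefP_of_semiample k hA.1 M.succ_pos
    (isGloballyGenerated_of_iso (unitL _) (hM (M + 1) M.le_succ))
  have hd' : topologicalKrullDim Y = ((1 : ℕ) : WithBot ℕ∞) := hd.trans Nat.cast_one.symm
  rw [Nakai.curveDeg_eq k hA.1 i hd']
  exact hn.nonneg k (DevLib.isCoh_pushforward_closed i (DevLib.isCoh_structureModule Y))
    (NumBdd.dim_supp_push i hd')

theorem curveDeg_pow {L : X.Modules} (hL : PicF.IsInvertible L) {Y : Scheme.{u}} (i : Y ⟶ X)
    [IsClosedImmersion i] (hY : IsIntegral Y) (hd : topologicalKrullDim Y = 1) : ∀ m : ℕ,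
    Pic13.curveDeg k (i ≫ (X ↘ Spec (CommRingCat.of k))) ((Scheme.Modules.pullback i).obj (CohB1.tensorPow L m)) =
      m * Pic13.curveDeg k (i ≫ (X ↘ Spec (CommRingCat.of k))) ((Scheme.Modules.pullback i).obj L)
  | 0 => (NumBdd.numTriv_unit k Y i hY hd).trans (by simp)
  | m + 1 => by
    show Pic13.curveDeg k _ ((Scheme.Modules.pullback i).obj (CohB1.tensorMod (CohB1.tensorPow L m) L)) = _
    rw [NumBdd.curveDeg_tensor k (isInvertible_tensorPow hL m) hL i (hd.trans Nat.cast_one.symm),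
      curveDeg_pow hL i hY hd m]
    push_cast
    ring

/-- If all `L^{± m} ⊗ H` are ample then `L` is numerically trivial. -/
theorem numTriv_of_ample_twists {H L L' : X.Modules} (hH : PicF.IsInvertible H) (hL : PicF.IsInvertible L)
    (hL' : PicF.IsInvertible L') (e : CohB1.tensorMod L L' ≅ Coh.structureModule X)
    (h : ∀ m : ℕ, CohB1.IsAmple (CohB1.tensorMod (CohB1.tensorPow L m) H) ∧
      CohB1.IsAmple (CohB1.tensorMod (CohB1.tensorPow L' m) H)) :
    Pic13.IsNumEquivZero k X L := by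
  intro Y i _ hY hd
  let D : X.Modules → ℤ := fun A => Pic13.curveDeg k (i ≫ (X ↘ Spec (CommRingCat.of k))) ((Scheme.Modules.pullback i).obj A)
  have hd' : topologicalKrullDim Y = ((1 : ℕ) : WithBot ℕ∞) := hd.trans Nat.cast_one.symm
  have h1 : ∀ (A : X.Modules), PicF.IsInvertible A → ∀ m : ℕ,
      D (CohB1.tensorMod (CohB1.tensorPow A m) H) = m * D A + D H := fun A hA m => by
    show Pic13.curveDeg k _ _ = _
    rw [NumBdd.curveDeg_tensor k (isInvertible_tensorPow hA m) hH i hd', curveDeg_pow k hA i hY hd m]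
  have h2 : D L + D L' = 0 := by
    show Pic13.curveDeg k _ _ + Pic13.curveDeg k _ _ = 0
    rw [← NumBdd.curveDeg_tensor k hL hL' i hd']
    exact NumBdd.numTriv_congr k ParaFLib.isInvertible_structureModule (isInvertible_tensor hL hL') e.symm
      (NumBdd.numTriv_unit k) Y i hY hd
  have hp : 0 ≤ D (CohB1.tensorMod (CohB1.tensorPow L ((D H).natAbs + 1)) H) :=
    curveDeg_nonneg_of_ample k (h ((D H).natAbs + 1)).1 i hd
  have hm : 0 ≤ D (CohB1.tensorMod (CohB1.tensorPow L' ((D H).natAbs + 1)) H) :=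
    curveDeg_nonneg_of_ample k (h ((D H).natAbs + 1)).2 i hd
  rw [h1 L hL] at hp
  rw [h1 L' hL'] at hm
  have hle : D H ≤ (D H).natAbs := Int.le_natAbs
  push_cast at hp hm
  simp only [← Int.natCast_natAbs] at hp hm
  show D L = 0
  rcases lt_trichotomy (D L) 0 with hneg | h0 | hpos
  · have : ((D H).natAbs + 1 : ℤ) * D L ≤ ((D H).natAbs + 1 : ℤ) * (-1) :=
      mul_le_mul_of_nonneg_left (by omega) (by positivity)
    linarith
  · exact h0
  · have : ((D H).natAbs + 1 : ℤ) * D L' ≤ ((D H).natAbs + 1 : ℤ) * (-1) :=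
      mul_le_mul_of_nonneg_left (by omega) (by positivity)
    linarith

end Groth.Agent.NumPic

end
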