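import Groth.Agent.GenFree.Modules
import Groth.Agent.S1393
import Groth.Agent.S12050
import Groth.Agent.GrassShLib.Proper
import Groth.Agent.NumBddLib.BddEuler
import Mathlib.AlgebraicGeometry.AlgClosed.Basic

/-!
# Infinitely many members of a bounded family of invertible modules: two are algebraically equivalent
-/

set_option autoImplicit false
set_option backward.isDefEq.respectTransparency false
set_option linter.style.haveILetI false
set_option maxHeartbeats 400000

universe u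

open CategoryTheory CategoryTheory.Limits AlgebraicGeometry TopologicalSpace

noncomputable section

namespace Groth.Agent.NumPic

variable (k : Type u) [Field k] (X : Scheme.{u}) [X.Over (Spec (CommRingCat.of k))]

/-- The map `X × U ⟶ X × T` induced by `j : U ⟶ T`. -/
def mapT {T U : Scheme.{u}} (q : T ⟶ Spec (CommRingCat.of k)) (j : U ⟶ T) :
    Pic13.prodK k X (j ≫ q) ⟶ Pic13.prodK k X q :=
  pullback.lift (pullback.fst _ _) (pullback.snd _ _ ≫ j) (by rw [Category.assoc]; exact pullback.condition)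

@[reassoc]
theorem mapT_snd {T U : Scheme.{u}} (q : T ⟶ Spec (CommRingCat.of k)) (j : U ⟶ T) :
    mapT k X q j ≫ pullback.snd _ _ = pullback.snd _ _ ≫ j :=
  pullback.lift_snd _ _ _

theorem slice_mapT {T U : Scheme.{u}} (q : T ⟶ Spec (CommRingCat.of k)) (j : U ⟶ T)
    (t : Spec (CommRingCat.of k) ⟶ U) (ht : t ≫ j ≫ q = 𝟙 _) (ht' : (t ≫ j) ≫ q = 𝟙 _) :
    Pic13.sliceAt k X (j ≫ q) t ht ≫ mapT k X q j = Pic13.sliceAt k X q (t ≫ j) ht' := by
  refine pullback.hom_ext ?_ ?_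
  · simp [Pic13.sliceAt, mapT]
  · simp [Pic13.sliceAt, mapT]

/-- Fibres of a pulled back family. -/
def fibreModMap {T U : Scheme.{u}} (q : T ⟶ Spec (CommRingCat.of k)) (j : U ⟶ T)
    (t : Spec (CommRingCat.of k) ⟶ U) (ht : t ≫ j ≫ q = 𝟙 _) (ht' : (t ≫ j) ≫ q = 𝟙 _)
    (F : (Pic13.prodK k X q).Modules) :
    Pic13.fibreMod k X (j ≫ q) t ht ((Scheme.Modules.pullback (mapT k X q j)).obj F) ≅
      Pic13.fibreMod k X q (t ≫ j) ht' F :=
  (Scheme.Modules.pullbackComp _ _).app F ≪≫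
    (Scheme.Modules.pullbackCongr (slice_mapT k X q j t ht ht')).app F

theorem freeAt_one_of_iso {Y : Scheme.{u}} {M L : Y.Modules} (hL : PicF.IsInvertible L) (e : M ≅ L) (y : Y) :
    PullbackMod.FreeAt 1 M y :=
  CurveLib.freeAt_one_of_isInvertible (L := M) (fun y => by
    obtain ⟨U, hy, ⟨i⟩⟩ := hL y
    exact ⟨U, hy, ⟨(Scheme.Modules.restrictFunctor U.ι).mapIso e ≪≫ i⟩⟩) y

variable [IsAlgClosed k] [IsProper (X ↘ Spec (CommRingCat.of k))]

theorem fiberι_eq {T : Scheme.{u}} (q : T ⟶ Spec (CommRingCat.of k)) [LocallyOfFiniteType q] (z : T)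
    (hz : IsClosed ({z} : Set T)) :
    ((pullback.snd (X ↘ Spec (CommRingCat.of k)) q).fiberι z ≫ pullback.fst _ _) ≫
        Pic13.sliceAt k X q (pointOfClosedPoint q z hz) (pointOfClosedPoint_comp q z hz) =
      (pullback.snd (X ↘ Spec (CommRingCat.of k)) q).fiberι z := by
  set f := pullback.snd (X ↘ Spec (CommRingCat.of k)) q
  have hid : T.fromSpecResidueField z ≫ q ≫ pointOfClosedPoint q z hz = T.fromSpecResidueField z := by
    rw [pointOfClosedPoint, ← Category.assoc q, ← Category.assoc, ← Category.assoc,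
      ← SpecMap_residueFieldIsoBase_inv q z hz, ← Spec.map_comp, Iso.hom_inv_id, Spec.map_id, Category.id_comp]
  refine pullback.hom_ext ?_ ?_
  · simp [Pic13.sliceAt]
  · have hc : pullback.fst (X ↘ Spec (CommRingCat.of k)) q ≫ (X ↘ Spec (CommRingCat.of k)) = f ≫ q :=
      pullback.condition
    simp only [Pic13.sliceAt, Category.assoc, pullback.lift_snd]
    rw [reassoc_of% hc]
    have h1 : f.fiberι z ≫ f = f.fiberToSpecResidueField z ≫ T.fromSpecResidueField z := pullback.condition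
    rw [reassoc_of% h1, hid]
    exact h1.symm

/-- Over a point with invertible slice, every point of the fibre has free rank-one pullback. -/
theorem isFinLocFree_fiber {T : Scheme.{u}} (q : T ⟶ Spec (CommRingCat.of k)) [LocallyOfFiniteType q] (z : T)
    (hz : IsClosed ({z} : Set T)) (F : (Pic13.prodK k X q).Modules) {L : X.Modules} (hL : PicF.IsInvertible L)
    (e : Pic13.fibreMod k X q (pointOfClosedPoint q z hz) (pointOfClosedPoint_comp q z hz) F ≅ L) :
    FlatMod.IsFinLocFreeOfRank 1 ((Scheme.Modules.pullback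
      ((pullback.snd (X ↘ Spec (CommRingCat.of k)) q).fiberι z)).obj F) := by
  refine GrassShLib.isInvertible_iff_rank_one.1 ?_
  set g := (pullback.snd (X ↘ Spec (CommRingCat.of k)) q).fiberι z ≫ pullback.fst _ _
  have hg := AmpleLib.isInvertible_pullback g hL
  have e' := (Scheme.Modules.pullbackCongr (fiberι_eq k X q z hz)).symm.app F ≪≫
    ((Scheme.Modules.pullbackComp g _).app F).symm ≪≫ (Scheme.Modules.pullback g).mapIso e
  intro y
  obtain ⟨U, hy, ⟨i⟩⟩ := hg y
  exact ⟨U, hy, ⟨(Scheme.Modules.restrictFunctor U.ι).mapIso e' ≪≫ i⟩⟩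

/-- Among infinitely many members of a bounded family of invertible modules, two are deformed into one another
along a connected scheme by an invertible family. -/
theorem exists_pair {P : X.Modules → Prop} (hb : Pic13.IsBounded k X P) (f : ℕ → X.Modules)
    (hf : ∀ m, PicF.IsInvertible (f m)) (hP : ∀ m, P (f m)) :
    ∃ a b : ℕ, a < b ∧ ∃ (T : Scheme.{u}) (q : T ⟶ Spec (CommRingCat.of k)), ConnectedSpace T ∧
      LocallyOfFiniteType q ∧ QuasiCompact q ∧ ∃ M : (Pic13.prodK k X q).Modules, PicF.IsInvertible M ∧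
        ∃ (t t₀ : Spec (CommRingCat.of k) ⟶ T) (ht : t ≫ q = 𝟙 _) (ht₀ : t₀ ≫ q = 𝟙 _),
          Nonempty (Pic13.fibreMod k X q t ht M ≅ f b) ∧ Nonempty (Pic13.fibreMod k X q t₀ ht₀ M ≅ f a) := by
  classical
  obtain ⟨T, q, hq, hqc, F, hF, hmem⟩ := hb
  haveI := hq
  haveI := hqc
  choose t ht he using fun m => hmem (f m) (hP m)
  by_cases hinj : Function.Injective t
  swap
  · obtain ⟨a, b, hab, hne⟩ : ∃ a b, t a = t b ∧ a ≠ b := by
      simpa [Function.Injective] using hinj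
    obtain ⟨ea⟩ := he a
    obtain ⟨eb⟩ := he b
    have e : f a ≅ f b := ea.symm ≪≫
      (Scheme.Modules.pullbackCongr (by simp [Pic13.sliceAt, hab])).app F ≪≫ eb
    wlog hlt : a < b generalizing a b
    · exact this b a hab.symm hne.symm eb ea e.symm (lt_of_le_of_ne (not_lt.1 hlt) hne.symm)
    refine ⟨a, b, hlt, Spec (CommRingCat.of k), 𝟙 _, ?_, inferInstance, inferInstance,
      (Scheme.Modules.pullback (pullback.fst _ _)).obj (f a), AmpleLib.isInvertible_pullback _ (hf a),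
      𝟙 _, 𝟙 _, Category.id_comp _, Category.id_comp _, ⟨?_⟩, ⟨?_⟩⟩
    · haveI : IrreducibleSpace ↥(Spec (CommRingCat.of k)) := inferInstanceAs (IrreducibleSpace (PrimeSpectrum k))
      infer_instance
    · exact (Scheme.Modules.pullbackComp _ _).app _ ≪≫
        (Scheme.Modules.pullbackCongr (pullback.lift_fst _ _ _)).app _ ≪≫
        (Scheme.Modules.pullbackId X).app _ ≪≫ e
    · exact (Scheme.Modules.pullbackComp _ _).app _ ≪≫
        (Scheme.Modules.pullbackCongr (pullback.lift_fst _ _ _)).app _ ≪≫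
        (Scheme.Modules.pullbackId X).app _
  let x : ℕ → T := fun m => t m (IsLocalRing.closedPoint k)
  have hx : Function.Injective x := fun a b h => hinj (ext_of_apply_closedPoint_eq q (ht a) (ht b) h)
  have hxc : ∀ m, IsClosed ({x m} : Set T) := fun m => ((pointEquivClosedPoint q) ⟨t m, ht m⟩).2
  haveI : CompactSpace T := QuasiCompact.compactSpace_of_compactSpace q
  haveI : IsLocallyNoetherian T := LocallyOfFiniteType.isLocallyNoetherian q
  haveI : IsNoetherian T := ⟨⟩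
  obtain ⟨Z, hZ, hmin⟩ := wellFounded_lt.has_min {Z : Closeds T | {m | x m ∈ Z}.Infinite}
    ⟨⊤, Set.infinite_univ.mono fun _ _ => Set.mem_univ _⟩
  have hmiss : ∀ C : Set T, IsClosed C → ¬ (Z : Set T) ⊆ C → {m | x m ∈ Z ∧ x m ∈ C}.Finite := by
    intro C hC hsub
    by_contra h
    refine hmin ⟨(Z : Set T) ∩ C, Z.isClosed.inter hC⟩ h (lt_of_le_of_ne Set.inter_subset_left fun heq => hsub ?_)
    exact Set.inter_eq_left.1 (congrArg (fun D : Closeds T => (D : Set T)) heq)
  have hirr : IsIrreducible (Z : Set T) := by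
    refine ⟨(hZ.nonempty).elim fun m hm => ⟨x m, hm⟩, isPreirreducible_iff_isClosed_union_isClosed.2 ?_⟩
    intro A B hA hB hsub
    by_contra hne
    rw [not_or] at hne
    refine hZ (((hmiss A hA hne.1).union (hmiss B hB hne.2)).subset fun m hm => ?_)
    exact (hsub hm).imp (fun h => ⟨hm, h⟩) (fun h => ⟨hm, h⟩)
  let I := Scheme.IdealSheafData.vanishingIdeal Z
  haveI : IsIntegral I.subscheme := CurveLib.isIntegral_vanishingIdeal (X := T) (C := (Z : Set T)) Z.isClosed hirr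
  let ι : I.subscheme ⟶ T := I.subschemeι
  have hrange : Set.range ι = (Z : Set T) := by
    rw [Scheme.IdealSheafData.range_subschemeι, Scheme.IdealSheafData.coe_support_vanishingIdeal]
  let q₁ := ι ≫ q
  let π₁ : Pic13.prodK k X q₁ ⟶ I.subscheme := pullback.snd _ _
  haveI : IsProper π₁ := MorphismProperty.pullback_snd (P := @IsProper) _ _ inferInstance
  haveI : LocallyOfFinitePresentation π₁ :=
    MorphismProperty.pullback_snd (P := @LocallyOfFinitePresentation) _ _ inferInstance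
  haveI : IsLocallyNoetherian I.subscheme := LocallyOfFiniteType.isLocallyNoetherian q₁
  haveI : IsLocallyNoetherian (Pic13.prodK k X q₁) := LocallyOfFiniteType.isLocallyNoetherian π₁
  let π₀ : Pic13.prodK k X q ⟶ T := pullback.snd _ _
  haveI : LocallyOfFiniteType π₀ := MorphismProperty.pullback_snd (P := @LocallyOfFiniteType) _ _ inferInstance
  haveI : IsLocallyNoetherian (Pic13.prodK k X q) := LocallyOfFiniteType.isLocallyNoetherian π₀
  let F₁ := (Scheme.Modules.pullback (mapT k X q ι)).obj F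
  have hF₁ : Coh.IsCoh F₁ := PullbackMod.isCoh_pullback _ F hF
  haveI : Coh.IsQCoh F₁ := hF₁.1
  have hfp : CohB1.IsFP F₁ := QCohLib.isFP_of_isCoh F₁ hF₁
  obtain ⟨U, hU, hflat⟩ := GenFree.exists_flat_open π₁ F₁ hF₁.2
  -- the points on `Z`
  have hpt : ∀ m, x m ∈ Z → ∃ z : I.subscheme, ∃ hz : IsClosed ({z} : Set I.subscheme), ι z = x m ∧
      Nonempty (Pic13.fibreMod k X q₁ (pointOfClosedPoint q₁ z hz) (pointOfClosedPoint_comp q₁ z hz) F₁ ≅ f m) := by
    intro m hm
    obtain ⟨z, hz⟩ : x m ∈ Set.range ι := by rw [hrange]; exact hm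
    have hzc : IsClosed ({z} : Set I.subscheme) := by
      rw [← ι.isClosedEmbedding.injective.preimage_image {z}, Set.image_singleton, hz]
      exact (hxc m).preimage ι.continuous
    refine ⟨z, hzc, hz, ?_⟩
    have h' : (pointOfClosedPoint q₁ z hzc ≫ ι) ≫ q = 𝟙 _ := by
      rw [Category.assoc]; exact pointOfClosedPoint_comp q₁ z hzc
    have ht' : pointOfClosedPoint q₁ z hzc ≫ ι = t m := ext_of_apply_closedPoint_eq q h' (ht m)
      (by rw [Scheme.Hom.comp_apply, pointOfClosedPoint_apply, hz])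
    obtain ⟨em⟩ := he m
    exact ⟨fibreModMap k X q ι _ _ h' F ≪≫
      (Scheme.Modules.pullbackCongr (by simp [Pic13.sliceAt, ht'])).app F ≪≫ em⟩
  choose z hz hzι hze using hpt
  -- every nonempty open of `Z` contains infinitely many of the points
  have hdense : ∀ O : I.subscheme.Opens, (O : Set I.subscheme).Nonempty →
      {m | ∃ hm : x m ∈ Z, z m hm ∈ O}.Infinite := by
    intro O ⟨o, ho⟩
    have hC : IsClosed (ι '' (O : Set I.subscheme)ᶜ) := ι.isClosedEmbedding.isClosedMap _ O.2.isClosed_compl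
    have hfin := hmiss _ hC fun hsub => by
      obtain ⟨o', ho', heq⟩ := hsub (hrange.subset ⟨o, rfl⟩)
      exact ho' (ι.isClosedEmbedding.injective heq ▸ ho)
    refine (hZ.diff hfin).mono fun m hm => ⟨hm.1, ?_⟩
    by_contra hno
    exact hm.2 ⟨hm.1, z m hm.1, hno, hzι m hm.1⟩
  -- the locus where `F₁` is free
  let N : Set (Pic13.prodK k X q₁) := ⋃ n, {p | PullbackMod.FreeAt n F₁ p}
  have hN : IsOpen N := isOpen_iUnion fun n => PullbackMod.isOpen_freeAt F₁ hfp n
  have hgood : ∀ m (hm : x m ∈ Z), z m hm ∈ U → z m hm ∉ π₁ '' Nᶜ := by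
    rintro m hm hmU ⟨p, hp, hpz⟩
    apply hp
    obtain ⟨e⟩ := hze m hm
    have hfree := isFinLocFree_fiber k X q₁ (z m hm) (hz m hm) F₁ (hf m) e
    obtain ⟨w, hw⟩ : ∃ w, π₁.fiberι (π₁ p) w = p := ⟨_, π₁.fiberι_asFiber p⟩
    generalize hs : π₁ p = s at w hw
    obtain rfl : s = z m hm := hs.symm.trans hpz
    subst hw
    haveI := PullbackMod.isQCoh_pullback (π₁.fiberι (z m hm)) F₁
    obtain ⟨eA⟩ := (PullbackMod.isFinLocFreeOfRank_iff_freeAt _
      (PullbackMod.isFP_pullback (π₁.fiberι (z m hm)) F₁ hfp) 1).1 hfree w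
    letI := ((π₁.fiberι (z m hm)).stalkMap w).hom.toAlgebra
    obtain ⟨φ, -⟩ := PullbackMod.exists_pullback_stalk_equiv (π₁.fiberι (z m hm)) F₁ w
    obtain ⟨V, n, hV, ⟨i⟩⟩ := Groth.Agent.S1393.result π₁ F₁ inferInstance hfp _ (hflat _ (show π₁ (π₁.fiberι (z m hm) w) ∈ U by rw [hs]; exact hmU))
      (S12050.flat_quot_of_free (Groth.Agent.FlatLocus.fiberι_stalkMap_surjective π₁ (z m hm) w) _
        (Groth.Agent.FlatLocus.ker_fiberι_stalkMap π₁ (z m hm) w) 1 (φ.trans eA))
    exact Set.mem_iUnion.2 ⟨n, PullbackMod.freeAt_of_restrict_iso F₁ i hV⟩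
  let W : I.subscheme.Opens :=
    ⟨(U : Set I.subscheme) ∩ (π₁ '' Nᶜ)ᶜ, U.2.inter (π₁.isClosedMap _ hN.isClosed_compl).isOpen_compl⟩
  have hW : (W : Set I.subscheme).Nonempty := by
    obtain ⟨m, hm, hmU⟩ := (hdense U hU).nonempty
    exact ⟨z m hm, hmU, hgood m hm hmU⟩
  let q₂ := W.ι ≫ q₁
  let π₂ : Pic13.prodK k X q₂ ⟶ (W : Scheme.{u}) := pullback.snd _ _
  haveI : Nonempty (W : Scheme.{u}) := ⟨⟨hW.some, hW.some_mem⟩⟩
  haveI : IsIntegral (W : Scheme.{u}) := isIntegral_of_isOpenImmersion W.ι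
  haveI : CompactSpace (W : Scheme.{u}) := by
    haveI : CompactSpace I.subscheme := QuasiCompact.compactSpace_of_compactSpace ι
    haveI : IsNoetherian I.subscheme := ⟨⟩
    exact isCompact_iff_compactSpace.1 (NoetherianSpace.isCompact _)
  haveI : IsLocallyNoetherian (W : Scheme.{u}) := LocallyOfFiniteType.isLocallyNoetherian q₂
  haveI : LocallyOfFiniteType π₂ := MorphismProperty.pullback_snd (P := @LocallyOfFiniteType) _ _ inferInstance
  haveI : IsLocallyNoetherian (Pic13.prodK k X q₂) := LocallyOfFiniteType.isLocallyNoetherian π₂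
  let F₂ := (Scheme.Modules.pullback (mapT k X q₁ W.ι)).obj F₁
  have hF₂ : Coh.IsCoh F₂ := PullbackMod.isCoh_pullback _ F₁ hF₁
  haveI : Coh.IsQCoh F₂ := hF₂.1
  have hfp₂ : CohB1.IsFP F₂ := QCohLib.isFP_of_isCoh F₂ hF₂
  have hfree₂ : ∀ p, ∃ n, PullbackMod.FreeAt n F₂ p := fun p => by
    have hmem : π₁ (mapT k X q₁ W.ι p) ∈ W := by
      have h : π₁ (mapT k X q₁ W.ι p) = W.ι (π₂ p) := congr($(mapT_snd k X q₁ W.ι) p)
      rw [h]; exact (π₂ p).2
    by_contra hne
    refine hmem.2 ⟨_, fun hp => ?_, rfl⟩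
    obtain ⟨n, hn⟩ := Set.mem_iUnion.1 hp
    exact hne ⟨n, PullbackMod.freeAt_pullback F₁ _ p hn⟩
  -- points of `W`
  have hpt₂ : ∀ m (hm : x m ∈ Z), z m hm ∈ W → ∃ (w : (W : Scheme.{u})) (hw : IsClosed ({w} : Set (W : Scheme.{u}))),
      W.ι w = z m hm ∧
      Nonempty (Pic13.fibreMod k X q₂ (pointOfClosedPoint q₂ w hw) (pointOfClosedPoint_comp q₂ w hw) F₂ ≅ f m) := by
    intro m hm hmW
    let w : (W : Scheme.{u}) := ⟨z m hm, hmW⟩
    have hwc : IsClosed ({w} : Set (W : Scheme.{u})) := by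
      rw [← W.ι.isOpenEmbedding.injective.preimage_image {w}, Set.image_singleton]
      exact (hz m hm).preimage W.ι.continuous
    refine ⟨w, hwc, rfl, ?_⟩
    have h' : (pointOfClosedPoint q₂ w hwc ≫ W.ι) ≫ q₁ = 𝟙 _ := by
      rw [Category.assoc]; exact pointOfClosedPoint_comp q₂ w hwc
    have ht' : pointOfClosedPoint q₂ w hwc ≫ W.ι = pointOfClosedPoint q₁ (z m hm) (hz m hm) :=
      ext_of_apply_closedPoint_eq q₁ h' (pointOfClosedPoint_comp _ _ _)
        (by rw [Scheme.Hom.comp_apply, pointOfClosedPoint_apply, pointOfClosedPoint_apply]; rfl)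
    obtain ⟨em⟩ := hze m hm
    exact ⟨fibreModMap k X q₁ W.ι _ _ h' F₁ ≪≫
      (Scheme.Modules.pullbackCongr (by simp [Pic13.sliceAt, ht'])).app F₁ ≪≫ em⟩
  -- rank one
  have hone : ∀ p, PullbackMod.FreeAt 1 F₂ p := fun p => by
    obtain ⟨n, hn⟩ := hfree₂ p
    by_cases hn1 : n = 1
    · exact hn1 ▸ hn
    exfalso
    haveI : Flat π₂ := MorphismProperty.pullback_snd (P := @Flat) _ _ inferInstance
    haveI : LocallyOfFinitePresentation π₂ :=
      MorphismProperty.pullback_snd (P := @LocallyOfFinitePresentation) _ _ inferInstance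
    haveI : UniversallyOpen π₂ := .of_flat π₂
    let O : W.toScheme.Opens := ⟨π₂ '' {p | PullbackMod.FreeAt n F₂ p},
      π₂.isOpenMap _ (PullbackMod.isOpen_freeAt F₂ hfp₂ n)⟩
    obtain ⟨m, hm, hmO⟩ := (hdense (W.ι ''ᵁ O) ⟨W.ι (π₂ p), ⟨π₂ p, ⟨p, hn, rfl⟩, rfl⟩⟩).nonempty
    obtain ⟨v, ⟨p', hp', hpv⟩, hv⟩ := hmO
    obtain ⟨w, hw, hwz, ⟨e⟩⟩ := hpt₂ m hm (hv ▸ v.2)
    obtain rfl : v = w := W.ι.isOpenEmbedding.injective (hv.trans hwz.symm)
    have hfree := isFinLocFree_fiber k X q₂ v hw F₂ (hf m) e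
    obtain ⟨y, hy⟩ : ∃ y, π₂.fiberι (π₂ p') y = p' := ⟨_, π₂.fiberι_asFiber p'⟩
    generalize hs : π₂ p' = s at y hy
    obtain rfl : s = v := hs.symm.trans hpv
    subst hy
    haveI := PullbackMod.isQCoh_pullback (π₂.fiberι s) F₂
    exact hn1 (PullbackMod.freeAt_unique _ (PullbackMod.freeAt_pullback F₂ _ y hp')
      ((PullbackMod.isFinLocFreeOfRank_iff_freeAt _ (PullbackMod.isFP_pullback (π₂.fiberι s) F₂ hfp₂) 1).1 hfree y))
  have hinv : PicF.IsInvertible F₂ := GrassShLib.isInvertible_iff_rank_one.2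
    ((PullbackMod.isFinLocFreeOfRank_iff_freeAt F₂ hfp₂ 1).2 hone)
  have hinf := hdense W hW
  obtain ⟨a, ha⟩ := hinf.nonempty
  obtain ⟨b, hb, hab⟩ := hinf.exists_gt a
  obtain ⟨wa, hwa, -, ea⟩ := hpt₂ a ha.1 ha.2
  obtain ⟨wb, hwb, -, eb⟩ := hpt₂ b hb.1 hb.2
  exact ⟨a, b, hab, W, q₂, inferInstance, inferInstance, (quasiCompact_iff_compactSpace q₂).2 inferInstance,
    F₂, hinv, _, _, _, _, eb, ea⟩

end Groth.Agent.NumPic

end
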